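import Groth.Agent.HProj.Grading
import Groth.Agent.HProj.ProjChart
import Groth.Prelude.Def_RelProj
import Mathlib.AlgebraicGeometry.Morphisms.Finite
import Mathlib.AlgebraicGeometry.AffineSpace

/-!
# A finite morphism is projective
-/

universe u

open CategoryTheory CategoryTheory.Limits AlgebraicGeometry TopologicalSpace Opposite MvPolynomial HomogeneousLocalization
open scoped HomogeneousIdeal

set_option backward.isDefEq.respectTransparency false
set_option backward.isDefEq.respectTransparency.types false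
set_option linter.style.haveILetI false

noncomputable section

namespace Groth.Agent.FinProj

open Groth.Agent

variable {X Y : Scheme.{u}} (f : X ⟶ Y) [IsFinite f]

/-- The line over `X`. -/
abbrev LX (X : Scheme.{u}) : Scheme.{u} := 𝔸(PUnit.{u + 1}; X)

/-- Its map to the base. -/
def π : LX X ⟶ Y := (LX X ↘ X) ≫ f

instance : IsAffineHom (π f) := inferInstanceAs (IsAffineHom ((LX X ↘ X) ≫ f))

/-- Polynomials in one variable as functions on the line. -/
def ev (U : Y.Opens) : MvPolynomial (Fin 1) Γ(X, f ⁻¹ᵁ U) →+* Γ(LX X, π f ⁻¹ᵁ U) :=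
  eval₂Hom ((LX X ↘ X).app (f ⁻¹ᵁ U)).hom
    (fun _ => (LX X).presheaf.map (homOfLE (le_top : π f ⁻¹ᵁ U ≤ ⊤)).op (AffineSpace.coord X PUnit.unit))

theorem bijective_ev {U : Y.Opens} (hU : IsAffineOpen U) : Function.Bijective (ev f U) := by
  let W : X.Opens := f ⁻¹ᵁ U
  haveI : IsAffine W.toScheme := hU.preimage f
  let m : 𝔸(PUnit.{u + 1}; W.toScheme) ⟶ LX X := AffineSpace.map PUnit.{u + 1} W.ι
  haveI : IsOpenImmersion m := MorphismProperty.of_isPullback (AffineSpace.isPullback_map W.ι).flip inferInstance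
  have hle : ⊤ ≤ m ⁻¹ᵁ (π f ⁻¹ᵁ U) := by
    intro x _
    show f ((LX X ↘ X) (m x)) ∈ U
    rw [← Scheme.Hom.comp_apply m, AffineSpace.map_over, Scheme.Hom.comp_apply]
    exact ((𝔸(PUnit.{u + 1}; W.toScheme) ↘ W.toScheme) x).2
  have hrange : π f ⁻¹ᵁ U ≤ m.opensRange := by
    intro x hx
    obtain ⟨v, hv, -⟩ := Scheme.exists_preimage_of_isPullback (AffineSpace.isPullback_map W.ι) x ⟨(LX X ↘ X) x, hx⟩ rfl
    exact ⟨v, hv⟩
  let a := m.appLE (π f ⁻¹ᵁ U) ⊤ hle
  haveI : IsIso a := by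
    haveI : IsIso (m.app (π f ⁻¹ᵁ U)) := m.isIso_app _ hrange
    haveI : IsIso ((𝔸(PUnit.{u + 1}; W.toScheme)).presheaf.map (homOfLE hle).op) := by
      rw [show homOfLE hle = eqToHom (top_le_iff.1 hle).symm from rfl, eqToHom_op]
      infer_instance
    exact inferInstanceAs (IsIso (_ ≫ _))
  let L := eval₂Hom (𝔸(PUnit.{u + 1}; W.toScheme) ↘ W.toScheme).appTop.hom
    (AffineSpace.coord W.toScheme (n := PUnit.{u + 1}))
  have hL : Function.Bijective L := by
    have h := (ConcreteCategory.bijective_of_isIso (C := CommRingCat)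
      ((AffineSpace.isoOfIsAffine PUnit.{u + 1} W.toScheme).hom.appTop))
    rw [AffineSpace.isoOfIsAffine_hom_appTop] at h
    have h' : Function.Bijective (L ∘ ⇑(ConcreteCategory.hom (Scheme.ΓSpecIso (CommRingCat.of (MvPolynomial PUnit.{u + 1} Γ(W.toScheme, ⊤)))).hom)) := h
    exact (Function.Bijective.of_comp_iff L (ConcreteCategory.bijective_of_isIso (C := CommRingCat)
      (Scheme.ΓSpecIso (CommRingCat.of (MvPolynomial PUnit.{u + 1} Γ(W.toScheme, ⊤)))).hom)).1 h'
  let r : MvPolynomial (Fin 1) Γ(X, W) ≃+* MvPolynomial PUnit.{u + 1} Γ(W.toScheme, ⊤) :=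
    (renameEquiv _ (Equiv.ofUnique (Fin 1) PUnit.{u + 1})).toRingEquiv.trans (MvPolynomial.mapEquiv _ W.topIso.commRingCatIsoToRingEquiv.symm)
  have key : a.hom.comp (ev f U) = L.comp r.toRingHom := by
    refine MvPolynomial.ringHom_ext (fun b => ?_) fun k => ?_
    · simp only [RingHom.comp_apply, ev, eval₂Hom_C, r, RingEquiv.toRingHom_eq_coe, RingHom.coe_coe,
        RingEquiv.trans_apply, AlgEquiv.coe_ringEquiv, mapEquiv_apply, L]
      erw [rename_C, map_C, eval₂Hom_C]
      show (((LX X ↘ X).app W ≫ a)).hom b = (W.topIso.inv ≫ (𝔸(PUnit.{u + 1}; W.toScheme) ↘ W.toScheme).appTop).hom b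
      congr 2
      have h1 : W.ι.appLE W ⊤ (fun z _ => z.2) = W.topIso.inv := by
        simp [Scheme.Opens.topIso]
        exact congrArg _ (Subsingleton.elim _ _)
      rw [← h1, Scheme.Hom.app_eq_appLE, Scheme.Hom.appTop, Scheme.Hom.app_eq_appLE]
      erw [Scheme.Hom.appLE_comp_appLE, Scheme.Hom.appLE_comp_appLE]
      exact PnCoh.Chow.appLE_congr_hom (AffineSpace.map_over _) W ⊤ _
    · simp only [RingHom.comp_apply, ev, eval₂Hom_X', r, RingEquiv.toRingHom_eq_coe, RingHom.coe_coe,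
        RingEquiv.trans_apply, AlgEquiv.coe_ringEquiv, mapEquiv_apply, L]
      rw [← CommRingCat.comp_apply, Scheme.Hom.map_appLE, show m.appLE ⊤ ⊤ le_top = m.appTop from (Scheme.Hom.app_eq_appLE _ (U := ⊤)).symm]
      erw [rename_X, map_X, eval₂Hom_X']
      exact AffineSpace.map_appTop_coord _ _
  have : Function.Bijective (a.hom ∘ ev f U) := by
    have := congrArg DFunLike.coe key
    simp only [RingHom.coe_comp] at this
    rw [this]
    exact hL.comp r.bijective
  exact (Function.Bijective.of_comp_iff' (ConcreteCategory.bijective_of_isIso a) _).1 this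

/-- The algebra `(f_* O_X)[t]`. -/
def grAlg : RelProj.QCGrAlg Y where
  toQCAlg := RelSpec.QCAlg.directImage (π f)
  deg U _ d := HProj.imgDeg (ev f U) d
  graded U hU := HProj.imgGradedRing (ev f U) (bijective_ev f hU).2 fun a ha d => by
    rw [(map_eq_zero_iff _ (bijective_ev f hU).1).1 ha, DirectSum.decompose_zero, DirectSum.zero_apply,
      ZeroMemClass.coe_zero, map_zero]
  map_mem := fun {U V} hU hV e {d x} hx => by
    obtain ⟨P, hP, rfl⟩ := (HProj.mem_imgDeg _).1 hx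
    refine ⟨MvPolynomial.map (X.presheaf.map (homOfLE (f.preimage_mono e)).op).hom P,
      MvPolynomial.IsHomogeneous.map ((mem_homogeneousSubmodule _ _).1 hP) _, ?_⟩
    have key : ((LX X).presheaf.map (homOfLE ((π f).preimage_mono e)).op).hom.comp (ev f U) =
        (ev f V).comp (MvPolynomial.map (X.presheaf.map (homOfLE (f.preimage_mono e)).op).hom) := by
      refine MvPolynomial.ringHom_ext (fun a => ?_) fun k => ?_
      · rw [RingHom.comp_apply, RingHom.comp_apply, MvPolynomial.map_C, ev, ev, eval₂Hom_C, eval₂Hom_C]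
        exact (congr($(Scheme.Hom.naturality (LX X ↘ X) (homOfLE (f.preimage_mono e)).op).hom a)).symm
      · rw [RingHom.comp_apply, RingHom.comp_apply, MvPolynomial.map_X, ev, ev, eval₂Hom_X', eval₂Hom_X',
          ← CommRingCat.comp_apply, ← Functor.map_comp]
        rfl
    exact (congrArg (fun φ : _ →+* _ => φ P) key).symm
  str_mem U hU r := ⟨MvPolynomial.C (f.app U r), isHomogeneous_C _ _, (eval₂Hom_C _ _ _).trans rfl⟩

theorem isGenDegOne : (grAlg f).IsGenDegOne := fun U hU =>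
  HProj.closure_imgDeg (ev f U) (bijective_ev f hU).2

theorem isFTDeg : (grAlg f).IsFTDeg 1 := by
  classical
  intro U hU
  algebraize [(f.app U).hom]
  haveI : Module.Finite Γ(Y, U) Γ(X, f ⁻¹ᵁ U) := IsFinite.finite_app f U hU
  obtain ⟨s, hs⟩ := Module.Finite.fg_top (R := Γ(Y, U)) (M := Γ(X, f ⁻¹ᵁ U))
  let g : Γ(X, f ⁻¹ᵁ U) → (grAlg f).presheaf.obj (op U) := fun b => ev f U (MvPolynomial.C b * MvPolynomial.X 0)
  have hg : Function.Injective g := fun b b' h => by
    have h' := (bijective_ev f hU).1 h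
    simpa [MvPolynomial.C_mul_X_eq_monomial] using congrArg (MvPolynomial.coeff (Finsupp.single 0 1)) h'
  refine ⟨s.image g, ?_, fun x hx => ?_⟩
  · intro y hy
    obtain ⟨b, -, rfl⟩ := Finset.mem_image.1 (Finset.mem_coe.1 hy)
    refine HProj.map_mem_imgDeg (ev f U) ?_
    rw [← MvPolynomial.smul_eq_C_mul]
    exact Submodule.smul_mem _ _ (ProjPt.X_mem 0)
  · obtain ⟨P, hP, rfl⟩ := (HProj.mem_imgDeg (ev f U)).1 hx
    rw [CohB1.polyGrading, MvPolynomial.homogeneousSubmodule_one_eq_span_X] at hP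
    obtain ⟨c, rfl⟩ := (Submodule.mem_span_range_iff_exists_fun _).1 hP
    rw [Fin.sum_univ_one]
    have hc : c 0 ∈ Submodule.span Γ(Y, U) (s : Set Γ(X, f ⁻¹ᵁ U)) := hs ▸ Submodule.mem_top
    obtain ⟨w, hw⟩ := Submodule.mem_span_finset'.1 hc
    refine ⟨fun t => if h : ∃ b : s, g b.1 = t then w h.choose else 0, ?_⟩
    rw [Finset.sum_image (fun b _ b' _ h => hg h)]
    rw [MvPolynomial.smul_eq_C_mul, ← hw, map_sum, Finset.sum_mul, map_sum, ← Finset.sum_coe_sort s]
    refine Finset.sum_congr rfl fun b _ => ?_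
    have h : ∃ b' : s, g b'.1 = g b.1 := ⟨b, rfl⟩
    beta_reduce
    erw [dif_pos h]
    rw [show h.choose = b from Subtype.ext (hg h.choose_spec)]
    show ev f U (MvPolynomial.C (w b • b.1) * MvPolynomial.X 0) =
      (show Γ(LX X, π f ⁻¹ᵁ U) from ((π f).app U).hom (w b)) * ev f U (MvPolynomial.C b.1 * MvPolynomial.X 0)
    rw [show w b • b.1 = f.app U (w b) * b.1 from rfl, map_mul, map_mul, map_mul, map_mul, mul_assoc]
    congr 1
    exact eval₂Hom_C _ _ _

/-- The parameter. -/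
abbrev T (U : Y.Opens) : (grAlg f).presheaf.obj (op U) := ev f U (MvPolynomial.X 0)

theorem T_mem (U : Y.Opens) (hU : IsAffineOpen U) : T f U ∈ (grAlg f).deg U hU 1 :=
  HProj.map_mem_imgDeg _ (ProjPt.X_mem 0)

/-- Evaluation at `t = 1`. -/
def θ {U : Y.Opens} (hU : IsAffineOpen U) : (grAlg f).presheaf.obj (op U) →+* Γ((f ⁻¹ᵁ U).toScheme, ⊤) :=
  (eval₂Hom (f ⁻¹ᵁ U).topIso.inv.hom (fun _ : Fin 1 => 1)).comp (RingEquiv.ofBijective (ev f U) (bijective_ev f hU)).symm.toRingHom

theorem θ_ev {U : Y.Opens} (hU : IsAffineOpen U) (P : MvPolynomial (Fin 1) Γ(X, f ⁻¹ᵁ U)) :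
    θ f hU (ev f U P) = eval₂Hom (f ⁻¹ᵁ U).topIso.inv.hom (fun _ : Fin 1 => 1) P := by
  show eval₂Hom _ _ ((RingEquiv.ofBijective (ev f U) (bijective_ev f hU)).symm (ev f U P)) = _
  exact congrArg _ ((RingEquiv.ofBijective (ev f U) (bijective_ev f hU)).symm_apply_apply P)

theorem θ_T {U : Y.Opens} (hU : IsAffineOpen U) : θ f hU (T f U) = 1 :=
  (θ_ev f hU _).trans (eval₂Hom_X' _ _ _)

/-- The chart. -/
def toProj {U : Y.Opens} (hU : IsAffineOpen U) : (f ⁻¹ᵁ U).toScheme ⟶ Proj ((grAlg f).deg U hU) :=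
  ProjPt.pt ((grAlg f).deg U hU) (θ f hU) (T_mem f U hU) one_pos (θ_T f hU ▸ isUnit_one)

theorem isIso_toProj {U : Y.Opens} (hU : IsAffineOpen U) : IsIso (toProj f hU) := by
  haveI : IsAffine (f ⁻¹ᵁ U).toScheme := hU.preimage f
  let φ := CommRingCat.ofHom (ProjPt.coordHom ((grAlg f).deg U hU) (θ f hU) (t := T f U) (θ_T f hU ▸ isUnit_one))
  have hmk : ∀ (n : ℕ) (a) (ha : a ∈ (grAlg f).deg U hU (n • 1)),
      ProjPt.coordHom ((grAlg f).deg U hU) (θ f hU) (θ_T f hU ▸ isUnit_one) (Away.mk ((grAlg f).deg U hU) (T_mem f U hU) n a ha) = θ f hU a := by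
    intro n a ha
    have := ProjPt.coordHom_mk_mul ((grAlg f).deg U hU) (θ f hU) (θ_T f hU ▸ isUnit_one) (T_mem f U hU) n a ha
    simp only [θ_T, one_pow, mul_one] at this
    exact this
  have hmono : ∀ (n : ℕ) (P : MvPolynomial (Fin 1) Γ(X, f ⁻¹ᵁ U)), P.IsHomogeneous n →
      ∃ b, P = MvPolynomial.C b * MvPolynomial.X 0 ^ n := by
    intro n P hP
    refine ⟨P.coeff (Finsupp.single 0 n), ?_⟩
    rw [MvPolynomial.C_mul_X_pow_eq_monomial]
    ext e
    rw [MvPolynomial.coeff_monomial]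
    have he : e = Finsupp.single 0 (e 0) := Finsupp.ext fun k => by rw [Fin.fin_one_eq_zero k]; simp
    split_ifs with h
    · rw [← h]
    · refine hP.coeff_eq_zero ?_
      intro hd
      apply h
      rw [he] at hd ⊢
      rw [Finsupp.degree_single] at hd
      rw [hd]
  haveI : IsIso φ := by
    refine (ConcreteCategory.isIso_iff_bijective φ).2 ⟨(injective_iff_map_eq_zero φ.hom).2 fun x hx => ?_, fun y => ?_⟩
    · obtain ⟨n, a, ha, rfl⟩ := Away.mk_surjective ((grAlg f).deg U hU) (T_mem f U hU) x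
      rw [show φ.hom _ = θ f hU a from hmk n a ha] at hx
      obtain ⟨P, hP, rfl⟩ := (HProj.mem_imgDeg (ev f U)).1 ha
      obtain ⟨b, rfl⟩ := hmono _ P ((mem_homogeneousSubmodule _ _).1 hP)
      rw [θ_ev, map_mul, map_pow, eval₂Hom_C, eval₂Hom_X', one_pow, mul_one] at hx
      have hb : b = 0 := (ConcreteCategory.bijective_of_isIso (f ⁻¹ᵁ U).topIso.inv).1 (hx.trans (map_zero _).symm)
      apply HomogeneousLocalization.val_injective
      subst hb
      rw [Away.val_mk, val_zero, map_zero, zero_mul, map_zero, Localization.mk_zero]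
    · obtain ⟨b, rfl⟩ := (ConcreteCategory.bijective_of_isIso (f ⁻¹ᵁ U).topIso.inv).2 y
      refine ⟨Away.mk ((grAlg f).deg U hU) (T_mem f U hU) 0 (ev f U (MvPolynomial.C b))
        (by rw [zero_smul]; exact HProj.map_mem_imgDeg _ (isHomogeneous_C _ b)), ?_⟩
      rw [show φ.hom _ = θ f hU _ from hmk _ _ _, θ_ev, eval₂Hom_C]
  let a := Proj.awayι ((grAlg f).deg U hU) (T f U) (T_mem f U hU) one_pos
  haveI : IsOpenImmersion a := inferInstanceAs (IsOpenImmersion (Proj.awayι _ _ _ _))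
  haveI : IsIso a := by
    haveI : Epi a.base := (TopCat.epi_iff_surjective _).2 fun y => by
      have hcov : ⨆ _ : Unit, Proj.basicOpen ((grAlg f).deg U hU) (T f U) = ⊤ := by
        refine Proj.iSup_basicOpen_eq_top _ _ ?_
        let J : HomogeneousIdeal ((grAlg f).deg U hU) := ⟨Ideal.span (Set.range fun _ : Unit => T f U),
          Ideal.homogeneous_span ((grAlg f).deg U hU) _ (by rintro _ ⟨k, rfl⟩; exact ⟨1, T_mem f U hU⟩)⟩
        refine (show ((grAlg f).deg U hU)₊ ≤ J from (HomogeneousIdeal.irrelevant_le _).2 fun d hd b hb => ?_)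
        obtain ⟨P, hP, rfl⟩ := (HProj.mem_imgDeg (ev f U)).1 hb
        obtain ⟨c, rfl⟩ := hmono _ P ((mem_homogeneousSubmodule _ _).1 hP)
        rw [map_mul, map_pow]
        refine Ideal.mul_mem_left _ _ (Ideal.pow_mem_of_mem _ (Ideal.subset_span (Set.mem_range_self ())) _ hd)
      obtain ⟨-, hy⟩ := Opens.mem_iSup.1 (hcov.ge (Opens.mem_top y))
      exact (Proj.opensRange_awayι ((grAlg f).deg U hU) (T f U) (T_mem f U hU) one_pos).ge hy
    exact IsOpenImmersion.isIso a
  show IsIso ((f ⁻¹ᵁ U).toScheme.toSpecΓ ≫ Spec.map φ ≫ a)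
  infer_instance

/-- The chart as an isomorphism. -/
def chart (U : Y.Opens) (hU : IsAffineOpen U) : (f ⁻¹ᵁ U).toScheme ≅ Proj ((grAlg f).deg U hU) :=
  haveI := isIso_toProj f hU
  asIso (toProj f hU)

theorem toProj_over {U : Y.Opens} (hU : IsAffineOpen U) :
    toProj f hU ≫ Proj.toSpecZero ((grAlg f).deg U hU) ≫ Spec.map ((grAlg f).strZero U hU) ≫ hU.fromSpec =
      (f ⁻¹ᵁ U).ι ≫ f := by
  haveI : IsAffine (f ⁻¹ᵁ U).toScheme := hU.preimage f
  rw [toProj, reassoc_of% (ProjPt.pt_toSpecZero _ _ _ _ _), ← Spec.map_comp_assoc]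
  rw [PnCoh.Chow.eq_toSpecΓ_fromSpec hU f (f ⁻¹ᵁ U) le_rfl, Scheme.Opens.toSpecΓ, Category.assoc,
    ← Spec.map_comp_assoc]
  have h2 : (grAlg f).strZero U hU ≫ CommRingCat.ofHom ((θ f hU).comp
      (algebraMap ((grAlg f).deg U hU 0) ((grAlg f).presheaf.obj (op U)))) =
      f.appLE U (f ⁻¹ᵁ U) le_rfl ≫ (f ⁻¹ᵁ U).topIso.inv := by
    refine CommRingCat.hom_ext (RingHom.ext fun r => ?_)
    rw [CommRingCat.hom_comp, RingHom.comp_apply, CommRingCat.hom_comp, RingHom.comp_apply, CommRingCat.hom_ofHom,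
      RingHom.comp_apply]
    have h3 : algebraMap ((grAlg f).deg U hU 0) ((grAlg f).presheaf.obj (op U)) (((grAlg f).strZero U hU).hom r) =
        ev f U (MvPolynomial.C (f.app U r)) := by
      rw [ev, eval₂Hom_C]
      show ((π f).app U).hom r = _
      show (((LX X ↘ X) ≫ f).app U).hom r = _
      rw [Scheme.Hom.comp_app]
      rfl
    rw [h3, θ_ev, eval₂Hom_C, Scheme.Hom.app_eq_appLE]
  rw [h2]

theorem toProj_res {U : Y.Opens} (hU : IsAffineOpen U) (r : Γ(Y, U)) :
    X.homOfLE (f.preimage_mono (Y.basicOpen_le r)) ≫ toProj f hU =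
      toProj f (hU.basicOpen r) ≫ Proj.map ((grAlg f).res hU (hU.basicOpen r) (Y.basicOpen_le r))
        ((grAlg f).irrelevant_le_map U hU r) := by
  rw [toProj, ProjPt.comp_pt]
  symm
  have hres : ∀ P : MvPolynomial (Fin 1) Γ(X, f ⁻¹ᵁ U),
      (grAlg f).res hU (hU.basicOpen r) (Y.basicOpen_le r) (ev f U P) =
        ev f (Y.basicOpen r) (MvPolynomial.map (X.presheaf.map (homOfLE (f.preimage_mono (Y.basicOpen_le r))).op).hom P) := by
    intro P
    induction P using MvPolynomial.induction_on with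
    | C a =>
      rw [MvPolynomial.map_C, ev, ev, eval₂Hom_C, eval₂Hom_C]
      exact (congr($(Scheme.Hom.naturality (LX X ↘ X) (homOfLE (f.preimage_mono (Y.basicOpen_le r))).op).hom a)).symm
    | add p q hp hq => simp only [map_add, hp, hq]
    | mul_X p k hp =>
      simp only [map_mul, hp, MvPolynomial.map_X]
      congr 1
      simp only [ev, eval₂Hom_X']
      show ((LX X).presheaf.map _ ≫ (LX X).presheaf.map _).hom _ = _
      rw [← Functor.map_comp]
      rfl
  have hT : (grAlg f).res hU (hU.basicOpen r) (Y.basicOpen_le r) (T f U) = T f (Y.basicOpen r) := by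
    rw [T, hres, MvPolynomial.map_X]
  have hu : IsUnit (θ f (hU.basicOpen r) ((grAlg f).res hU (hU.basicOpen r) (Y.basicOpen_le r) (T f U))) := by
    rw [hT, θ_T]; exact isUnit_one
  rw [toProj, ProjPt.pt_indep _ _ (T_mem f _ (hU.basicOpen r)) one_pos _
    (((grAlg f).res hU (hU.basicOpen r) (Y.basicOpen_le r)).2 (T_mem f U hU)) one_pos hu]
  refine HProj.pt_map _ _ _ (T_mem f U hU) one_pos hu _ (fun x => ?_) _
  obtain ⟨P, rfl⟩ := (bijective_ev f hU).2 x
  rw [hres, θ_ev, RingHom.comp_apply, θ_ev, eval₂Hom_map_hom]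
  rw [map_eval₂Hom]
  congr 2
  · ext a
    show ((X.presheaf.map _) ≫ (f ⁻¹ᵁ Y.basicOpen r).topIso.inv).hom a = ((f ⁻¹ᵁ U).topIso.inv ≫ (X.homOfLE _).appTop).hom a
    congr 2
    simp [Scheme.Opens.topIso, ← Functor.map_comp]
  · funext k
    exact (map_one _).symm

theorem chart_hom {U : Y.Opens} (hU : IsAffineOpen U) : (chart f U hU).hom = toProj f hU := rfl

theorem isRelProj : RelProj.IsRelProj (grAlg f) f (chart f) where
  chart_over U hU := by rw [chart_hom]; exact toProj_over f hU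
  chart_res U hU r := by rw [chart_hom, chart_hom]; exact toProj_res f hU r

theorem isProjective : RelProj.IsProjective f :=
  ⟨grAlg f, X, f, chart f, Iso.refl X, isGenDegOne f, isFTDeg f, isRelProj f, Category.id_comp _⟩

end Groth.Agent.FinProj
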